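import Cfsg.Agent.Lib.Recog.PSLDegree.Hyp
import Cfsg.Prelude.Def_LieExceptional
import Mathlib.GroupTheory.GroupAction.MultipleTransitivity

/-!
Groups with the character degrees of `PSL₂(q)` act as Zassenhaus groups of degree `q + 1` on
their Sylow `p`-subgroups, and are simple.
-/

set_option autoImplicit false

namespace CfsgLib.Recog.PSLDegree

open CfsgLib.Char CfsgLib.BlockB MulAction
open scoped Pointwise

universe u

namespace Hyp

variable {G : Type u} [Group G] [Finite G] {p q K A : ℕ}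

theorem card_sylows (h : Hyp G p q K A) :
    Nat.card (Sylow p G) = q + 1 ∧
      ∀ P : Sylow p G, K * Nat.card (Subgroup.normalizer (P : Set G)) = q * (q - 1) := by
  classical
  have : Fact p.Prime := ⟨h.prime⟩
  have h4 := h.four
  have hA := h.A_pos
  have hKA := h.A_eq
  set n := Nat.card (Sylow p G) with hn
  -- the orbits of a Sylow subgroup on the others are regular
  have hmod : ∀ P : Sylow p G, q ∣ n - 1 := fun P => by
    have hfree : ∀ Q : {Q : Sylow p G // Q ≠ P}, ∀ x : (P : Subgroup G),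
        (x : G) • Q.1 = Q.1 → x = 1 := fun Q x hx => by
      by_contra hx1
      refine Q.2 (h.sylow_inter ?_ x.2 fun e => hx1 (Subtype.ext e))
      have h1 : (x : G) ∈ (P : Subgroup G) ⊓ Subgroup.normalizer (Q.1 : Set G) :=
        ⟨x.2, Sylow.smul_eq_iff_mem_normalizer.mp hx⟩
      rw [IsPGroup.inf_normalizer_sylow P.2] at h1
      exact h1.2
    let _ : MulAction (P : Subgroup G) {Q : Sylow p G // Q ≠ P} :=
      { smul := fun x Q => ⟨(x : G) • Q.1, fun e => Q.2 (by
          have h1 : (x : G) • P = P := Sylow.smul_eq_iff_mem_normalizer.mpr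
            (Subgroup.le_normalizer x.2)
          exact smul_left_cancel (x : G) (e.trans h1.symm))⟩
        one_smul := fun Q => Subtype.ext (one_smul G Q.1)
        mul_smul := fun x y Q => Subtype.ext (mul_smul (x : G) (y : G) Q.1) }
    have hst : ∀ Q : {Q : Sylow p G // Q ≠ P}, stabilizer (P : Subgroup G) Q = ⊥ := fun Q =>
      (Subgroup.eq_bot_iff_forall _).mpr fun x hx => hfree Q x (congrArg Subtype.val hx)
    have hsub : Nat.card {Q : Sylow p G // Q ≠ P} = n - 1 := by
      have := Fintype.ofFinite (Sylow p G)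
      rw [hn, Nat.card_eq_fintype_card, Nat.card_eq_fintype_card, Fintype.card_subtype_compl,
        Fintype.card_subtype_eq]
    rw [← hsub, Nat.card_congr (selfEquivSigmaOrbitsQuotientStabilizer (P : Subgroup G)
      {Q : Sylow p G // Q ≠ P})]
    have := Fintype.ofFinite (orbitRel.Quotient (P : Subgroup G) {Q : Sylow p G // Q ≠ P})
    rw [Nat.card_sigma]
    refine Finset.dvd_sum fun ω _ => ?_
    rw [hst, ← Subgroup.index, Subgroup.index_bot, h.card_sylow P]
  obtain ⟨P⟩ := (inferInstance : Nonempty (Sylow p G))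
  set N := Nat.card (Subgroup.normalizer (P : Set G)) with hN
  have hnN : n * N = q * A * (q - 1) := by
    rw [hn, P.card_eq_index_normalizer, Subgroup.index_mul_card, h.card]
  obtain ⟨e, he⟩ : q ∣ N := h.card_sylow P ▸ Subgroup.card_dvd_of_le Subgroup.le_normalizer
  have hne : n * e = A * (q - 1) := by
    rw [he] at hnN
    exact Nat.eq_of_mul_eq_mul_left (show 0 < q by omega) (by linarith [hnN, mul_assoc q A (q - 1)])
  obtain ⟨b, hb⟩ := hmod P
  have hn0 : 0 < n := Nat.card_pos
  -- there is more than one Sylow subgroup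
  have hn1 : n ≠ 1 := by
    intro h1
    have hs : Subsingleton (Sylow p G) := (Nat.card_eq_one_iff_unique.mp h1).1
    have hPn := P.normal_of_subsingleton
    have hcardP := h.card_sylow P
    have : Nontrivial (P : Subgroup G) := Finite.one_lt_card_iff_nontrivial.mp (by omega)
    obtain ⟨⟨x, hxP⟩, hx⟩ := exists_ne (1 : (P : Subgroup G))
    have hx1 : x ≠ 1 := fun e => hx (Subtype.ext e)
    have := Fintype.ofFinite G
    have hcl := natCard_carrier_mul_centralizer x
    rw [h.centralizer_eq P hxP hx1, hcardP, h.card] at hcl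
    have hle : Nat.card (ConjClasses.mk x).carrier < Nat.card (P : Subgroup G) := by
      rw [Nat.card_coe_set_eq, ← SetLike.coe_sort_coe, Nat.card_coe_set_eq]
      refine Set.ncard_lt_ncard ?_ (Set.toFinite _)
      refine ⟨fun y hy => ?_, fun hsub => ?_⟩
      · have hy' : ConjClasses.mk y = ConjClasses.mk x := ConjClasses.mem_carrier_iff_mk_eq.mp hy
        obtain ⟨c, rfl⟩ := isConj_iff.mp (ConjClasses.mk_eq_mk_iff_isConj.mp hy'.symm)
        exact hPn.conj_mem x hxP c
      · have h1 : (1 : G) ∈ (ConjClasses.mk x).carrier := hsub (one_mem _)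
        exact hx1 (isConj_one_right.mp (ConjClasses.mk_eq_mk_iff_isConj.mp
          (ConjClasses.mem_carrier_iff_mk_eq.mp h1)))
    rw [hcardP] at hle
    have hAB : Nat.card (ConjClasses.mk x).carrier = A * (q - 1) :=
      Nat.eq_of_mul_eq_mul_right (show 0 < q by omega) (hcl.trans (by ring))
    have : 2 * (q - 1) ≤ A * (q - 1) := Nat.mul_le_mul_right _ hA
    omega
  -- `K e = q - 1`
  have hprod : n * (K * e) = (q + 1) * (q - 1) := by
    rw [← hKA, mul_left_comm, hne]; ring
  have hnb : n = q * b + 1 := by omega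
  have hb1 : 1 ≤ b := Nat.pos_of_ne_zero fun h0 => hn1 (by rw [hnb, h0, mul_zero])
  have hKe : K * e = q - 1 ∧ n = q + 1 := by
    have hz : ((q : ℤ) * b + 1) * (K * e : ℕ) = ((q : ℤ) + 1) * ((q : ℤ) - 1) := by
      have h2 := congrArg (Nat.cast : ℕ → ℤ) hprod
      rw [hnb] at h2
      push_cast [Nat.cast_sub (show 1 ≤ q by omega)] at h2 ⊢
      linarith
    set E : ℤ := ((K * e : ℕ) : ℤ) with hE
    obtain ⟨c, hc⟩ : (q : ℤ) ∣ E + 1 := ⟨q - b * E, by linarith⟩
    have hb1' : (1 : ℤ) ≤ b := by exact_mod_cast hb1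
    have hE0 : 0 < E := by
      rcases (Int.natCast_nonneg (K * e)).lt_or_eq with h' | h'
      · exact h'
      · exfalso
        rw [hE, ← h', mul_zero] at hz
        nlinarith [show (4 : ℤ) ≤ q by exact_mod_cast h4]
    have hq4 : (4 : ℤ) ≤ q := by exact_mod_cast h4
    have hc1 : 1 ≤ c := by nlinarith
    have key : (c : ℤ) - b = q * (1 - b * c) := by
      have : E = q * c - 1 := by linarith
      rw [this] at hz
      have h5 : (q : ℤ) * ((c : ℤ) - b - q * (1 - b * c)) = 0 := by linarith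
      rcases mul_eq_zero.mp h5 with h6 | h6
      · omega
      · linarith
    have hbc : (b : ℤ) * c = 1 := by
      by_contra hne1
      have h6 : 2 ≤ (b : ℤ) * c := by
        have : (1 : ℤ) ≤ b * c := by nlinarith
        omega
      nlinarith
    have hb' : (b : ℤ) = 1 := Int.eq_one_of_mul_eq_one_right (by positivity) hbc
    have hbn : b = 1 := by exact_mod_cast hb'
    refine ⟨?_, by rw [hnb, hbn, mul_one]⟩
    have : n = q + 1 := by rw [hnb, hbn, mul_one]
    rw [this] at hprod
    exact Nat.eq_of_mul_eq_mul_left (by omega) hprod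
  refine ⟨hKe.2, fun P' => ?_⟩
  have h2 : Nat.card (Subgroup.normalizer (P' : Set G)) * n = N * n := by
    rw [hn, hN]
    conv_lhs => rw [P'.card_eq_index_normalizer]
    conv_rhs => rw [P.card_eq_index_normalizer]
    rw [Subgroup.card_mul_index, Subgroup.card_mul_index]
  rw [Nat.eq_of_mul_eq_mul_right hn0 h2, he, mul_left_comm, hKe.1]

theorem fix_two_mem (h : Hyp G p q K A) {P Q : Sylow p G} (hPQ : P ≠ Q) {u : G}
    (hu : u ∈ P) (hQ : u • Q = Q) : u = 1 := by
  by_contra hu1
  refine hPQ (h.sylow_inter hu ?_ hu1)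
  have h1 : u ∈ (P : Subgroup G) ⊓ Subgroup.normalizer (Q : Set G) :=
    ⟨hu, Sylow.smul_eq_iff_mem_normalizer.mp hQ⟩
  rw [IsPGroup.inf_normalizer_sylow P.2] at h1
  exact h1.2

/-- A Sylow subgroup is regular on the others. -/
theorem exists_smul (h : Hyp G p q K A) {P Q R : Sylow p G} (hQ : Q ≠ P) (hR : R ≠ P) :
    ∃ u ∈ P, u • Q = R := by
  classical
  have : Fact p.Prime := ⟨h.prime⟩
  have hfix : ∀ u ∈ P, u • P = P := fun u hu =>
    Sylow.smul_eq_iff_mem_normalizer.mpr (Subgroup.le_normalizer hu)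
  let φ : ↥(P : Subgroup G) → {S : Sylow p G // S ≠ P} := fun u =>
    ⟨(u : G) • Q, fun e => hQ (smul_left_cancel (u : G) (e.trans (hfix u u.2).symm))⟩
  have hinj : Function.Injective φ := fun u v huv => by
    have h1 : (u : G) • Q = (v : G) • Q := congrArg Subtype.val huv
    have h2 : ((v⁻¹ * u : (P : Subgroup G)) : G) • Q = Q := by
      rw [Subgroup.coe_mul, Subgroup.coe_inv, mul_smul, h1, inv_smul_smul]
    exact (inv_mul_eq_one.mp (Subtype.ext (h.fix_two_mem (Ne.symm hQ) (v⁻¹ * u).2 h2))).symm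
  have hcard : Nat.card (P : Subgroup G) = Nat.card {S : Sylow p G // S ≠ P} := by
    have := Fintype.ofFinite (Sylow p G)
    rw [h.card_sylow, Nat.card_eq_fintype_card, Fintype.card_subtype_compl,
      Fintype.card_subtype_eq, ← Nat.card_eq_fintype_card, h.card_sylows.1]
    omega
  obtain ⟨u, hu⟩ := (hinj.bijective_of_nat_card_le hcard.ge).surjective ⟨R, hR⟩
  exact ⟨u, u.2, congrArg Subtype.val hu⟩

/-- Only the identity fixes three Sylow subgroups. -/
theorem fix_three (h : Hyp G p q K A) {g : G} {P Q R : Sylow p G} (hPQ : P ≠ Q) (hQR : Q ≠ R)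
    (hPR : P ≠ R) (hP : g • P = P) (hQ : g • Q = Q) (hR : g • R = R) : g = 1 := by
  obtain ⟨u, hu, huQ⟩ := h.exists_smul (Ne.symm hPQ) (Ne.symm hPR)
  have hu1 : u ≠ 1 := fun e => hQR (by rw [← huQ, e, one_smul])
  have hgu : g * u * g⁻¹ ∈ P :=
    (Subgroup.mem_normalizer_iff.mp (Sylow.smul_eq_iff_mem_normalizer.mp hP) u).mp hu
  have h1 : (u⁻¹ * (g * u * g⁻¹)) • Q = Q := by
    rw [mul_smul, mul_smul, mul_smul, inv_smul_eq_iff, huQ]
    rw [show g⁻¹ • Q = Q from inv_smul_eq_iff.mpr hQ.symm, huQ, hR]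
  have h2 := h.fix_two_mem hPQ ((P : Subgroup G).mul_mem ((P : Subgroup G).inv_mem hu) hgu) h1
  have h3 : g ∈ Subgroup.centralizer ({u} : Set G) := by
    rw [Subgroup.mem_centralizer_singleton_iff]
    calc g * u = (g * u * g⁻¹) * g := by group
      _ = u * g := by rw [← inv_mul_eq_one.mp h2]
  rw [h.centralizer_eq P hu hu1] at h3
  exact h.fix_two_mem hPQ h3 hQ

theorem two_transitive (h : Hyp G p q K A) : IsMultiplyPretransitive G (Sylow p G) 2 := by
  have : Fact p.Prime := ⟨h.prime⟩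
  rw [is_two_pretransitive_iff]
  intro a b c d hab hcd
  obtain ⟨g, hg⟩ := exists_smul_eq G a c
  obtain ⟨u, hu, hud⟩ := h.exists_smul (P := c) (Q := g • b) (R := d)
    (fun e => hab (smul_left_cancel g (hg.trans e.symm))) (Ne.symm hcd)
  refine ⟨u * g, ?_, by rw [mul_smul, hud]⟩
  rw [mul_smul, hg]
  exact Sylow.smul_eq_iff_mem_normalizer.mpr (Subgroup.le_normalizer hu)

theorem card_stab_pair (h : Hyp G p q K A) {P Q : Sylow p G} (hPQ : P ≠ Q) :
    K * Nat.card ↥(stabilizer G P ⊓ stabilizer G Q) = q - 1 := by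
  have : Fact p.Prime := ⟨h.prime⟩
  have hmem : ∀ u ∈ P, u • P = P := fun u hu =>
    Sylow.smul_eq_iff_mem_normalizer.mpr (Subgroup.le_normalizer hu)
  let φ : ↥(P : Subgroup G) × ↥(stabilizer G P ⊓ stabilizer G Q) → stabilizer G P := fun x =>
    ⟨(x.1 : G) * x.2, mul_mem (mem_stabilizer_iff.mpr (hmem _ x.1.2)) x.2.2.1⟩
  have hbij : Function.Bijective φ := by
    refine ⟨fun x y hxy => ?_, fun g => ?_⟩
    · have h1 : (x.1 : G) * x.2 = y.1 * y.2 := congrArg Subtype.val hxy
      have h3 : ((y.1 : G)⁻¹ * x.1) = y.2 * (x.2 : G)⁻¹ := by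
        rw [eq_mul_inv_iff_mul_eq, mul_assoc, h1, inv_mul_cancel_left]
      have h4 := h.fix_two_mem hPQ
        ((P : Subgroup G).mul_mem ((P : Subgroup G).inv_mem y.1.2) x.1.2)
        (show ((y.1 : G)⁻¹ * x.1) • Q = Q by
          rw [h3]
          exact mem_stabilizer_iff.mp (mul_mem y.2.2.2 (inv_mem x.2.2.2)))
      have h5 := inv_mul_eq_one.mp h4
      refine Prod.ext (Subtype.ext h5.symm) (Subtype.ext ?_)
      rw [h5] at h1
      exact mul_left_cancel h1
    · obtain ⟨u, hu, huQ⟩ := h.exists_smul (P := P) (Q := Q) (R := (g : G) • Q) (Ne.symm hPQ)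
        (fun e => hPQ (smul_left_cancel (g : G) ((mem_stabilizer_iff.mp g.2).trans e.symm)))
      refine ⟨(⟨u, hu⟩, ⟨u⁻¹ * g, ⟨(stabilizer G P).mul_mem ((stabilizer G P).inv_mem (mem_stabilizer_iff.mpr (hmem u hu))) g.2,
        mem_stabilizer_iff.mpr (by rw [mul_smul, ← huQ, inv_smul_smul])⟩⟩), Subtype.ext ?_⟩
      exact mul_inv_cancel_left u g
  have h1 := Nat.card_congr (Equiv.ofBijective φ hbij)
  have h3 : Nat.card (stabilizer G P) = Nat.card (Subgroup.normalizer (P : Set G)) := by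
    rw [Sylow.stabilizer_eq_normalizer]
  rw [Nat.card_prod, h.card_sylow, h3] at h1
  have h2 := h.card_sylows.2 P
  rw [← h1] at h2
  have hq0 : 0 < q := by have := h.four; omega
  refine Nat.eq_of_mul_eq_mul_left hq0 ?_
  rw [← h2]; ring

theorem isSimpleGroup (h : Hyp G p q K A) : IsSimpleGroup G := by
  classical
  have : Fact p.Prime := ⟨h.prime⟩
  have h4 := h.four
  have hn := h.card_sylows.1
  have hG : Nat.card G = (q + 1) * Nat.card (Subgroup.normalizer
      ((default : Sylow p G) : Set G)) := by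
    rw [← hn, (default : Sylow p G).card_eq_index_normalizer, Subgroup.index_mul_card]
  have : Nontrivial G := Finite.one_lt_card_iff_nontrivial.mp (by
    rw [hG]
    calc 1 < q + 1 := by omega
      _ ≤ _ := Nat.le_mul_of_pos_right _ Nat.card_pos)
  refine ⟨fun N hN => ?_⟩
  rcases eq_or_ne N ⊥ with hbot | hbot
  · exact Or.inl hbot
  refine Or.inr ?_
  -- a nontrivial normal subgroup is transitive
  have hprim := isPreprimitive_of_is_two_pretransitive h.two_transitive
  have hfix : fixedPoints N (Sylow p G) ≠ .univ := by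
    intro hall
    obtain ⟨x, hxN, hx1⟩ := (Subgroup.bot_or_exists_ne_one N).resolve_left hbot
    have : Fintype (Sylow p G) := Fintype.ofFinite _
    obtain ⟨P, Q, R, hPQ, hPR, hQR⟩ := Fintype.two_lt_card_iff.mp
      (show 2 < Fintype.card (Sylow p G) by rw [← Nat.card_eq_fintype_card, hn]; omega)
    have hall' : ∀ S : Sylow p G, x • S = S := fun S => by
      have : S ∈ fixedPoints N (Sylow p G) := by rw [hall]; trivial
      exact this ⟨x, hxN⟩
    exact hx1 (h.fix_three hPQ hQR hPR (hall' P) (hall' Q) (hall' R))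
  have : IsPretransitive N (Sylow p G) := IsQuasiPreprimitive.isPretransitive_of_normal hfix
  have hdiv : q + 1 ∣ Nat.card N := by
    rw [← hn, ← MulAction.index_stabilizer_of_transitive (G := N) (default : Sylow p G)]
    exact Subgroup.index_dvd_card _
  by_contra htop
  set m := Nat.card (G ⧸ N) with hm
  have hm1 : 1 < m := by
    rw [hm, ← Subgroup.index]
    exact Nat.one_lt_iff_ne_zero_and_ne_one.mpr
      ⟨Subgroup.index_ne_zero_of_finite, fun e => htop (Subgroup.index_eq_one.mp e)⟩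
  set NP := Nat.card (Subgroup.normalizer ((default : Sylow p G) : Set G)) with hNP
  have hmd : m ∣ NP := by
    obtain ⟨c, hc⟩ := hdiv
    refine ⟨c, Nat.eq_of_mul_eq_mul_left (show 0 < q + 1 by omega) ?_⟩
    rw [← hG, mul_left_comm, ← hc, hm, ← Subgroup.index, Subgroup.index_mul_card]
  have hKN : K * NP = q * (q - 1) := h.card_sylows.2 _
  have hK : 1 ≤ K := by rcases h.K_cases with rfl | rfl <;> norm_num
  have hA := h.A_pos
  -- degrees of nontrivial characters of the quotient
  have := Fintype.ofFinite (G ⧸ N)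
  have := Fintype.ofFinite (Cfsg.IrrCharacter (G ⧸ N))
  have hsum : ∑ χ : Cfsg.IrrCharacter (G ⧸ N), Cfsg.charDegree (χ : G ⧸ N → ℂ) ^ 2 = m := by
    have h1 := sum_irr_sq (G := G ⧸ N)
    apply Nat.cast_injective (R := ℂ)
    push_cast
    simp only [irr_degree_cast]
    exact h1
  have hmle : m ≤ q * (q - 1) := (Nat.le_of_dvd (by rw [hNP]; exact Nat.card_pos) hmd).trans
    (hKN ▸ Nat.le_mul_of_pos_left _ hK)
  have hq1 : ∀ χ : Cfsg.IrrCharacter (G ⧸ N), χ ≠ triv (G ⧸ N) →
      (q - 1) ∣ Cfsg.charDegree (χ : G ⧸ N → ℂ) := by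
    intro χ hχ
    let χ' : Cfsg.IrrCharacter G :=
      ⟨_, isIrrCharacter_comp_surjective χ.2 (QuotientGroup.mk' N) (QuotientGroup.mk'_surjective N)⟩
    have hd : Cfsg.charDegree (χ' : G → ℂ) = Cfsg.charDegree (χ : G ⧸ N → ℂ) := by
      simp [Cfsg.charDegree, χ']
    have hdm := irr_degree_dvd_card χ
    have hle := Finset.single_le_sum (f := fun χ : Cfsg.IrrCharacter (G ⧸ N) =>
      Cfsg.charDegree (χ : G ⧸ N → ℂ) ^ 2) (fun _ _ => Nat.zero_le _) (Finset.mem_univ χ)
    rw [hsum] at hle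
    set d := Cfsg.charDegree (χ : G ⧸ N → ℂ)
    have hd0 : 0 < d := irr_degree_pos χ
    rcases h.deg χ' with h1 | h1 | h1 | h1 <;> rw [hd] at h1
    · refine absurd (Subtype.ext (funext fun y => ?_)) hχ
      obtain ⟨g, rfl⟩ := QuotientGroup.mk'_surjective N y
      exact h.lin χ' (hd.trans h1) g
    · exfalso
      have : q ≤ d := Nat.le_of_dvd hd0 h1
      have : q * q ≤ d ^ 2 := by rw [sq]; exact Nat.mul_le_mul this this
      have : q * (q - 1) < q * q := Nat.mul_lt_mul_of_pos_left (by omega) (by omega)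
      omega
    · exfalso
      have h2 : A ∣ q * (q - 1) := hKN ▸ (h1.trans (hdm.trans (hm ▸ hmd))).mul_left K
      have := Nat.Coprime.eq_one_of_dvd ((h.cop_q.1.symm).mul_right h.cop) h2
      omega
    · exact h1
  obtain ⟨χ, hχ⟩ : ∃ χ : Cfsg.IrrCharacter (G ⧸ N), χ ≠ triv (G ⧸ N) := by
    by_contra hall
    push Not at hall
    rw [Finset.sum_eq_single (triv (G ⧸ N)) (fun χ _ hne => absurd (hall χ) hne) (by simp),
      charDegree_triv] at hsum
    omega
  rw [← Finset.add_sum_erase _ _ (Finset.mem_univ (triv (G ⧸ N))), charDegree_triv] at hsum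
  set S := ∑ χ ∈ Finset.univ.erase (triv (G ⧸ N)), Cfsg.charDegree (χ : G ⧸ N → ℂ) ^ 2 with hS
  have hBS : (q - 1) ^ 2 ∣ S := Finset.dvd_sum fun χ hχ =>
    pow_dvd_pow_of_dvd (hq1 χ (Finset.ne_of_mem_erase hχ)) 2
  have hS0 : 0 < S := Finset.sum_pos (fun χ _ => pow_pos (irr_degree_pos χ) 2)
    ⟨χ, Finset.mem_erase.mpr ⟨hχ, Finset.mem_univ _⟩⟩
  have hge : (q - 1) ^ 2 + 1 ≤ m := by
    have := Nat.le_of_dvd hS0 hBS; simp only [one_pow] at hsum; omega
  -- the quotient is all of `N(P)`
  have hmN : m = NP := by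
    obtain ⟨c, hc⟩ := hmd
    rcases Nat.lt_or_ge c 2 with hc2 | hc2
    · interval_cases c
      · have : 0 < NP := by rw [hNP]; exact Nat.card_pos
        omega
      · omega
    · exfalso
      have : 2 * m ≤ NP := by rw [hc, mul_comm m c]; exact Nat.mul_le_mul_right m hc2
      have : NP ≤ q * (q - 1) := hKN ▸ Nat.le_mul_of_pos_left _ hK
      have : q * (q - 1) < 2 * ((q - 1) ^ 2 + 1) := by
        obtain ⟨r, rfl⟩ : ∃ r, q = r + 1 := ⟨q - 1, by omega⟩
        simp only [Nat.add_sub_cancel]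
        nlinarith
      omega
  obtain ⟨P, Q, hPQ⟩ : ∃ P Q : Sylow p G, P ≠ Q := by
    have := Fintype.ofFinite (Sylow p G)
    exact Fintype.one_lt_card_iff.mp (by rw [← Nat.card_eq_fintype_card, hn]; omega)
  have he := h.card_stab_pair hPQ
  set e := Nat.card ↥(stabilizer G P ⊓ stabilizer G Q)
  have hNe : NP = q * e := by
    have := hKN.trans (congrArg (q * ·) he.symm)
    rw [mul_left_comm] at this
    exact Nat.eq_of_mul_eq_mul_left hK this
  have h1 : e ∣ 1 + S := by
    have : m = 1 + S := by simpa using hsum.symm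
    rw [← this, hmN, hNe]; exact dvd_mul_left _ _
  have h2 : e ∣ S := ((Dvd.intro_left K he).trans (dvd_pow_self _ two_ne_zero)).trans hBS
  have he1 : e = 1 := Nat.dvd_one.mp ((Nat.dvd_add_left h2).mp h1)
  rw [he1, mul_one] at he
  rcases h.K_cases with rfl | rfl <;> omega

/-- The action on the Sylow `p`-subgroups is that of a Zassenhaus group. -/
theorem isZassenhausGroup (h : Hyp G p q K A) : Cfsg.IsZassenhausGroup G (Sylow p G) := by
  classical
  have : Fact p.Prime := ⟨h.prime⟩
  have := h.isSimpleGroup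
  have hn := h.card_sylows.1
  have h4 := h.four
  have : Fintype (Sylow p G) := Fintype.ofFinite _
  obtain ⟨P, Q, R, hPQ, hPR, hQR⟩ := Fintype.two_lt_card_iff.mp
    (show 2 < Fintype.card (Sylow p G) by rw [← Nat.card_eq_fintype_card, hn]; omega)
  have he := h.card_stab_pair hPQ
  obtain ⟨g, hg, hg1⟩ : ∃ g ∈ stabilizer G P ⊓ stabilizer G Q, g ≠ 1 := by
    refine (Subgroup.bot_or_exists_ne_one _).resolve_left fun hb => ?_
    rw [hb, Subgroup.card_bot, mul_one] at he
    rcases h.K_cases with rfl | rfl <;> omega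
  refine ⟨⟨fun {a b} hab => ?_⟩, h.two_transitive,
    fun g a b c h1 h2 h3 => h.fix_three h1 h2 h3, ⟨g, hg1, P, Q, hPQ, hg.1, hg.2⟩,
    fun N hN hT => ⟨P, fun hbot => ?_⟩⟩
  · rw [← inv_mul_eq_one]
    exact h.fix_three (g := a⁻¹ * b) hPQ hQR hPR
      (by rw [mul_smul, ← hab P, inv_smul_smul]) (by rw [mul_smul, ← hab Q, inv_smul_smul])
      (by rw [mul_smul, ← hab R, inv_smul_smul])
  · rcases IsSimpleGroup.eq_bot_or_eq_top_of_normal N hN with rfl | rfl
    · obtain ⟨⟨x, hx⟩, hxQ⟩ := exists_smul_eq (⊥ : Subgroup G) P Q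
      obtain rfl := Subgroup.mem_bot.mp hx
      exact hPQ ((one_smul G P).symm.trans hxQ)
    · have := (Subgroup.eq_bot_iff_forall _).mp hbot ⟨g, trivial⟩ hg.1
      exact hg1 (congrArg Subtype.val this)

end Hyp

end CfsgLib.Recog.PSLDegree
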