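import Cfsg.Agent.Lib.BlockB.PSL2Degrees
import Cfsg.Agent.Lib.Char.Diag

/-!
The irreducible degrees of `PSL₂(F)` for `|F| ≡ 1 (mod 4)` or `|F|` even, sharp form.
-/

set_option autoImplicit false
set_option linter.unusedSectionVars false

namespace CfsgLib.Recog.PSLDegree

open Matrix CfsgLib.KnownB.SL2 CfsgLib.KnownB.GL2
open scoped MatrixGroups

variable {F : Type*} [Field F] [Fintype F] [DecidableEq F]

local notation "S2" => Matrix.SpecialLinearGroup (Fin 2) F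
local notation "PS2" => Matrix.ProjectiveSpecialLinearGroup (Fin 2) F
local notation "M2" => Matrix (Fin 2) (Fin 2) F
local notation "qq" => Fintype.card F

/-- The quadratic character of the norm one group is `-1` at `-1` when `q ≡ 1 (mod 4)`. -/
theorem nu_neg_one {E : Type*} [Field E] [Algebra F E] [IsQuad F E] [Fintype E]
    (h4 : qq % 4 = 1) {ν : MulChar E ℂ} (hν : ¬ TrivC F ν) (hν2 : TrivC F (ν ^ 2)) :
    ν (algebraMap F E (-1)) = -1 := by
  rw [map_neg, map_one]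
  have hsq : ν (-1) * ν (-1) = 1 := by rw [← map_mul]; simp
  rcases mul_self_eq_one_iff.mp hsq with h | h
  swap
  · exact h
  exfalso
  refine hν fun x hx => ?_
  have hq : x ^ (qq + 1) = 1 := by
    rw [pow_succ, pow_q_of_norm_one hx, inv_mul_cancel₀ (ne_zero_of_norm_one hx)]
  have h2 := hν2 x hx
  rw [MulChar.pow_apply' _ two_ne_zero] at h2
  obtain ⟨k, hk⟩ : ∃ k, qq + 1 = 2 * (2 * k + 1) := ⟨qq / 4, by omega⟩
  rw [hk, mul_comm, pow_mul, sq] at hq
  have h3 : ν (x ^ (2 * k + 1)) = 1 := by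
    rcases mul_self_eq_one_iff.mp hq with h' | h'
    · rw [h', map_one]
    · rw [h', h]
  rw [map_pow, pow_succ, pow_mul, h2, one_pow, one_mul] at h3
  exact h3

/-- An outer automorphism fixes the central involution. -/
theorem outer_zz (d : Fˣ) : outer d (zz : S2) = zz := by
  refine ι_injective ?_
  rw [ι_outer]
  have hc : dgl d * ι (zz : S2) = ι (zz : S2) * dgl d := by
    ext i j
    simp [coe_zz]
  rw [hc, mul_inv_cancel_right]

/-- A character of degree `(q-1)/2` is faithful on the centre when `q ≡ 1 (mod 4)`. -/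
theorem half_not_trivial {E : Type*} [Field E] [Algebra F E] [IsQuad F E] [Fintype E]
    (h4 : qq % 4 = 1) (D : OddData (F := F) E) :
    D.c₁ zz ≠ D.c₁ 1 ∧ D.c₂ zz ≠ D.c₂ 1 := by
  have hodd : Odd qq := Nat.odd_iff.mpr (by omega)
  have hsw : D.c₁ zz = D.c₂ zz := by rw [← D.hC.swap, outer_zz]
  have hsum : C (F := F) D.ν zz = D.c₁ zz + D.c₂ zz := by rw [D.hC.sum]; rfl
  rw [C_scalar D.ν coe_zz, nu_neg_one h4 D.hν D.hν2, hsw] at hsum
  obtain ⟨-, -, hd1, hd2⟩ := D.degrees hodd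
  rw [(half_cast hodd).2] at hd1 hd2
  have hne : ((Fintype.card F : ℂ) - 1) ≠ 0 := by
    rw [sub_ne_zero]
    exact_mod_cast (Fintype.one_lt_card (α := F)).ne'
  refine ⟨fun he => hne ?_, fun he => hne ?_⟩
  · rw [hsw, hd1] at he
    linear_combination (-1 / 2 : ℂ) * hsum - he
  · rw [hd2] at he
    linear_combination (-1 / 2 : ℂ) * hsum - he

/-- The degrees of `PSL₂(q)` for `q` even or `q ≡ 1 (mod 4)`, and the only linear character. -/
theorem psl_cases (hq : 4 ≤ qq) (h4 : Even qq ∨ qq % 4 = 1) (ψ : Cfsg.IrrCharacter PS2) :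
    (Cfsg.charDegree (ψ : PS2 → ℂ) = 1 ∨ Cfsg.charDegree (ψ : PS2 → ℂ) = qq ∨
      Cfsg.charDegree (ψ : PS2 → ℂ) = qq + 1 ∨ Cfsg.charDegree (ψ : PS2 → ℂ) = qq - 1 ∨
      (Odd qq ∧ Cfsg.charDegree (ψ : PS2 → ℂ) = (qq + 1) / 2)) ∧
    (Cfsg.charDegree (ψ : PS2 → ℂ) = 1 → ∀ g, (ψ : PS2 → ℂ) g = 1) := by
  set π : S2 →* PS2 := QuotientGroup.mk' (Subgroup.center S2) with hπ
  have hsur : Function.Surjective π := CfsgLib.BlockB.PSL2Degrees.mk_surjective
  set d := Cfsg.charDegree (ψ : PS2 → ℂ) with hd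
  have hirr : Cfsg.IsIrrCharacter S2 ((ψ : PS2 → ℂ) ∘ π) :=
    CfsgLib.Char.isIrrCharacter_comp_surjective ψ.2 π hsur
  have hdeg : ((ψ : PS2 → ℂ) ∘ π) 1 = (d : ℂ) := by
    rw [Function.comp_apply, map_one, hd, CfsgLib.BlockB.irr_degree_cast]
  have htriv : (∀ s, ((ψ : PS2 → ℂ) ∘ π) s = 1) → ∀ g, (ψ : PS2 → ℂ) g = 1 := fun h g => by
    obtain ⟨s, rfl⟩ := hsur g
    exact h s
  have hm : ((qq - 1 : ℕ) : ℂ) = (qq : ℂ) - 1 := by
    rw [Nat.cast_sub Fintype.card_pos, Nat.cast_one]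
  obtain ⟨E, _, _, _, _⟩ := exists_quad F
  have key : (∀ g, (ψ : PS2 → ℂ) g = 1) ∧ d = 1 ∨ d = qq ∨ d = qq + 1 ∨ d = qq - 1 ∨
      (Odd qq ∧ d = (qq + 1) / 2) := by
    by_cases hodd : Odd qq
    · obtain ⟨D⟩ := exists_oddData E hodd
      obtain ⟨d1, d2, -, -⟩ := D.degrees hodd
      have hz : ((ψ : PS2 → ℂ) ∘ π) zz = ((ψ : PS2 → ℂ) ∘ π) 1 := by
        have hz1 : π zz = 1 := (QuotientGroup.eq_one_iff _).mpr zz_mem_center
        simp only [Function.comp_apply, hz1, map_one]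
      have h41 : qq % 4 = 1 := h4.resolve_left (Nat.not_even_iff_odd.mpr hodd)
      rcases D.cases hodd hirr with h | h | ⟨α, -, h⟩ | ⟨μ, -, h⟩ | h | h | h | h <;>
        rw [h] at hdeg
      · refine Or.inl ⟨htriv fun s => by rw [h], ?_⟩
        exact Nat.cast_injective (R := ℂ) (hdeg.symm.trans Nat.cast_one.symm)
      · rw [St0_one] at hdeg; exact Or.inr (Or.inl (by exact_mod_cast hdeg.symm))
      · rw [P_one] at hdeg; exact Or.inr (Or.inr (Or.inl (by exact_mod_cast hdeg.symm)))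
      · rw [C_one, ← hm] at hdeg
        exact Or.inr (Or.inr (Or.inr (Or.inl (by exact_mod_cast hdeg.symm))))
      · rw [d1] at hdeg
        exact Or.inr (Or.inr (Or.inr (Or.inr ⟨hodd, by exact_mod_cast hdeg.symm⟩)))
      · rw [d2] at hdeg
        exact Or.inr (Or.inr (Or.inr (Or.inr ⟨hodd, by exact_mod_cast hdeg.symm⟩)))
      · rw [h] at hz; exact absurd hz (half_not_trivial h41 D).1
      · rw [h] at hz; exact absurd hz (half_not_trivial h41 D).2
    · rcases irr_cases_even E hodd hirr with h | h | ⟨α, -, h⟩ | ⟨μ, -, h⟩ <;> rw [h] at hdeg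
      · refine Or.inl ⟨htriv fun s => by rw [h], ?_⟩
        exact Nat.cast_injective (R := ℂ) (hdeg.symm.trans Nat.cast_one.symm)
      · rw [St0_one] at hdeg; exact Or.inr (Or.inl (by exact_mod_cast hdeg.symm))
      · rw [P_one] at hdeg; exact Or.inr (Or.inr (Or.inl (by exact_mod_cast hdeg.symm)))
      · rw [C_one, ← hm] at hdeg
        exact Or.inr (Or.inr (Or.inr (Or.inl (by exact_mod_cast hdeg.symm))))
  refine ⟨?_, fun h1 => ?_⟩
  · rcases key with ⟨-, h⟩ | h | h | h | h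
    · exact Or.inl h
    · exact Or.inr (Or.inl h)
    · exact Or.inr (Or.inr (Or.inl h))
    · exact Or.inr (Or.inr (Or.inr (Or.inl h)))
    · exact Or.inr (Or.inr (Or.inr (Or.inr h)))
  · rcases key with ⟨h, -⟩ | h | h | h | ⟨-, h⟩
    · exact h
    all_goals omega

end CfsgLib.Recog.PSLDegree
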