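import Cfsg.Agent.Lib.BlockB.DefectZero
import Cfsg.Agent.Lib.Char.Column
import Cfsg.Agent.Lib.Char.Integral
import Cfsg.Agent.Lib.Char.Linear
import Mathlib.GroupTheory.Sylow

/-!
Groups with the character degrees of `PSL₂(q)`: elements of order divisible by `p` have
`p`-groups as centralizers.
-/

set_option autoImplicit false

namespace CfsgLib.Recog.PSLDegree

open CfsgLib.Char CfsgLib.BlockB
open scoped ComplexConjugate

universe u

/-- A group with the order and the shape of degrees of `PSL₂(q)`, `q` a power of `p`. -/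
structure Hyp (G : Type u) [Group G] [Finite G] (p q K A : ℕ) : Prop where
  prime : p.Prime
  pow : ∃ n, q = p ^ n
  four : 4 ≤ q
  K_cases : K = 1 ∨ K = 2
  A_eq : K * A = q + 1
  card : Nat.card G = q * A * (q - 1)
  cop : A.Coprime (q - 1)
  comm : ∀ (P : Sylow p G), ∀ x ∈ P, ∀ y ∈ P, x * y = y * x
  deg : ∀ χ : Cfsg.IrrCharacter G, Cfsg.charDegree (χ : G → ℂ) = 1 ∨
    q ∣ Cfsg.charDegree (χ : G → ℂ) ∨ A ∣ Cfsg.charDegree (χ : G → ℂ) ∨
    (q - 1) ∣ Cfsg.charDegree (χ : G → ℂ)
  lin : ∀ χ : Cfsg.IrrCharacter G, Cfsg.charDegree (χ : G → ℂ) = 1 → ∀ g, (χ : G → ℂ) g = 1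

variable {G : Type u} [Group G] [Finite G] {p q K A : ℕ}

/-- The trivial character. -/
noncomputable def triv (G : Type u) [Group G] [Finite G] : Cfsg.IrrCharacter G :=
  ⟨fun _ => 1, CfsgLib.Char.isIrrCharacter_one⟩

theorem triv_apply (g : G) : (triv G : G → ℂ) g = 1 := rfl

theorem charDegree_triv : Cfsg.charDegree (triv G : G → ℂ) = 1 := by
  simp [Cfsg.charDegree, triv]

namespace Hyp

theorem eq_triv (h : Hyp G p q K A) {χ : Cfsg.IrrCharacter G}
    (h1 : Cfsg.charDegree (χ : G → ℂ) = 1) : χ = triv G :=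
  Subtype.ext (funext (h.lin χ h1))

theorem A_pos (h : Hyp G p q K A) : 2 ≤ A := by
  rcases h.K_cases with rfl | rfl <;> have := h.A_eq <;> have := h.four <;> omega

theorem cop_q (h : Hyp G p q K A) : q.Coprime A ∧ q.Coprime (q - 1) := by
  have h4 := h.four
  refine ⟨?_, ?_⟩
  · have h1 : q.Coprime (q + 1) := by
      rw [Nat.coprime_self_add_right]; exact Nat.coprime_one_right q
    exact h1.coprime_dvd_right ⟨K, by rw [← h.A_eq, mul_comm]⟩
  · exact (Nat.coprime_self_sub_right (by omega)).mpr (Nat.coprime_one_right q)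

/-- Characters whose degree is divisible by one of the three parts of the order vanish at the
elements singular for a prime of that part. -/
theorem vanish {M M' : ℕ} (hcard : Nat.card G = M * M') {r : ℕ} (hr : r.Prime) (hrM : r ∣ M)
    (hcop : M.Coprime M') (χ : Cfsg.IrrCharacter G) (hd : M ∣ Cfsg.charDegree (χ : G → ℂ))
    {g : G} (hg : r ∣ orderOf g) : (χ : G → ℂ) g = 0 := by
  have : Fact r.Prime := ⟨hr⟩
  refine irr_apply_eq_zero_of_defect_zero χ ?_ hg
  refine dvd_trans ?_ hd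
  have h1 : r ^ (Nat.card G).factorization r ∣ M * M' := hcard ▸ Nat.ordProj_dvd _ _
  exact ((Nat.Coprime.coprime_dvd_left hrM hcop).pow_left _).dvd_of_dvd_mul_right h1

/-- If all nontrivial characters not vanishing at `g ≠ 1` have degree divisible by `m`, then
`m = 1`. -/
theorem eq_one_of_forall {m : ℕ} (hm : 0 < m) {g : G} (hg : g ≠ 1)
    (hv : ∀ χ : Cfsg.IrrCharacter G, χ ≠ triv G →
      (χ : G → ℂ) g = 0 ∨ m ∣ Cfsg.charDegree (χ : G → ℂ)) : m = 1 := by
  classical
  have := Fintype.ofFinite G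
  have := Fintype.ofFinite (Cfsg.IrrCharacter G)
  have h0 := sum_irr_mul_degree g
  rw [if_neg hg, ← Finset.add_sum_erase _ _ (Finset.mem_univ (triv G)), triv_apply, triv_apply,
    mul_one] at h0
  set S := ∑ χ ∈ Finset.univ.erase (triv G),
    ((Cfsg.charDegree (χ : G → ℂ) / m : ℕ) : ℂ) * (χ : G → ℂ) g with hS
  have hint : IsIntegral ℤ S :=
    IsIntegral.sum _ fun χ _ => (isIntegral_algebraMap (x := ((_ : ℕ) : ℤ))).mul
      (irr_isIntegral χ g) |> fun h => by simpa using h
  have heq : ∑ χ ∈ Finset.univ.erase (triv G), (χ : G → ℂ) 1 * (χ : G → ℂ) g = (m : ℂ) * S := by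
    rw [hS, Finset.mul_sum]
    refine Finset.sum_congr rfl fun χ hχ => ?_
    rcases hv χ (Finset.ne_of_mem_erase hχ) with h | h
    · rw [h]; ring
    · rw [← irr_degree_cast χ, ← mul_assoc, ← Nat.cast_mul, Nat.mul_div_cancel' h]
  rw [heq] at h0
  refine Nat.dvd_one.mp (dvd_of_isIntegral_div hm ?_)
  have hm' : (m : ℂ) ≠ 0 := Nat.cast_ne_zero.mpr hm.ne'
  rw [show ((1 : ℕ) : ℂ) / (m : ℂ) = -S by
    rw [div_eq_iff hm', Nat.cast_one]; linear_combination h0]
  exact hint.neg

/-- No element has order divisible by `p` and by another prime. -/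
theorem not_mixed (h : Hyp G p q K A) {g : G} (hpg : p ∣ orderOf g) {r : ℕ} (hr : r.Prime)
    (hrg : r ∣ orderOf g) : r = p := by
  have h4 := h.four
  have hA := h.A_pos
  obtain ⟨n, hn⟩ := h.pow
  obtain ⟨hqA, hqB⟩ := h.cop_q
  have hpq : p ∣ q := by
    rcases Nat.eq_zero_or_pos n with rfl | hn0
    · rw [pow_zero] at hn; omega
    · exact hn ▸ dvd_pow_self p hn0.ne'
  have hg : g ≠ 1 := by
    rintro rfl
    rw [orderOf_one] at hpg
    exact h.prime.not_dvd_one hpg
  by_contra hne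
  have vq : ∀ χ : Cfsg.IrrCharacter G, q ∣ Cfsg.charDegree (χ : G → ℂ) → (χ : G → ℂ) g = 0 :=
    fun χ hd => vanish (by rw [h.card, mul_assoc]) h.prime hpq (hqA.mul_right hqB) χ hd hpg
  have hrq : ¬ r ∣ q := fun hd =>
    hne ((Nat.prime_dvd_prime_iff_eq hr h.prime).mp (hr.dvd_of_dvd_pow (hn ▸ hd)))
  have hrAB : r ∣ A ∨ r ∣ q - 1 := by
    have h1 : r ∣ q * A * (q - 1) := h.card ▸ hrg.trans (orderOf_dvd_natCard g)
    rcases hr.dvd_mul.mp h1 with h2 | h2
    · exact Or.inl ((hr.dvd_mul.mp h2).resolve_left hrq)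
    · exact Or.inr h2
  rcases hrAB with hrA | hrB
  · have := eq_one_of_forall (m := q - 1) (by omega) hg fun χ hχ => by
      rcases h.deg χ with h1 | h1 | h1 | h1
      · exact absurd (h.eq_triv h1) hχ
      · exact Or.inl (vq χ h1)
      · exact Or.inl (vanish (M' := q * (q - 1)) (by rw [h.card]; ring) hr hrA
          (hqA.symm.mul_right h.cop) χ h1 hrg)
      · exact Or.inr h1
    omega
  · have := eq_one_of_forall (m := A) (by omega) hg fun χ hχ => by
      rcases h.deg χ with h1 | h1 | h1 | h1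
      · exact absurd (h.eq_triv h1) hχ
      · exact Or.inl (vq χ h1)
      · exact Or.inr h1
      · exact Or.inl (vanish (M' := q * A) (by rw [h.card]; ring) hr hrB
          (hqB.symm.mul_right h.cop.symm) χ h1 hrg)
    omega

theorem card_sylow (h : Hyp G p q K A) (P : Sylow p G) : Nat.card P = q := by
  have : Fact p.Prime := ⟨h.prime⟩
  obtain ⟨n, hn⟩ := h.pow
  obtain ⟨hqA, hqB⟩ := h.cop_q
  rw [P.card_eq_multiplicity, h.card, mul_assoc, hn]
  congr 1
  rcases Nat.eq_zero_or_pos n with rfl | hn0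
  · have := h.four; rw [pow_zero] at hn; omega
  have hnd : ¬ p ∣ A * (q - 1) := fun hd =>
    h.prime.not_dvd_one (Nat.dvd_gcd (hn ▸ dvd_pow_self p hn0.ne' : p ∣ q) hd |>.trans
      (dvd_of_eq (hqA.mul_right hqB)))
  have h4 := h.four
  have hne : A * (q - 1) ≠ 0 := fun h0 => hnd (by rw [h0]; exact dvd_zero p)
  rw [← hn, Nat.factorization_mul (by omega) hne, Finsupp.add_apply,
    Nat.factorization_eq_zero_of_not_dvd hnd, add_zero, hn,
    Nat.Prime.factorization_pow h.prime, Finsupp.single_eq_same]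

/-- The centralizer of a nontrivial element of a Sylow `p`-subgroup is that subgroup. -/
theorem centralizer_eq (h : Hyp G p q K A) (P : Sylow p G) {x : G} (hx : x ∈ P) (hx1 : x ≠ 1) :
    Subgroup.centralizer ({x} : Set G) = (P : Subgroup G) := by
  have : Fact p.Prime := ⟨h.prime⟩
  refine P.is_maximal' (IsPGroup.of_card
      (G := ↥(Subgroup.centralizer ({x} : Set G)))
      (n := (Nat.card (Subgroup.centralizer ({x} : Set G))).primeFactorsList.length) ?_) ?_
  · refine Nat.eq_prime_pow_of_unique_prime_dvd Nat.card_pos.ne' (p := p) ?_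
    intro r hr hd
    by_contra hne
    have : Fact r.Prime := ⟨hr⟩
    obtain ⟨y, hy⟩ := exists_prime_orderOf_dvd_card' r hd
    have hyc : Commute x (y : G) := (Subgroup.mem_centralizer_singleton_iff.mp y.2).symm
    have hyo : orderOf (y : G) = r := by rw [Subgroup.orderOf_coe, hy]
    obtain ⟨k, hk⟩ := IsPGroup.iff_orderOf.mp P.2 ⟨x, hx⟩
    rw [Subgroup.orderOf_mk] at hk
    have hk0 : k ≠ 0 := fun h0 => hx1 (orderOf_eq_one_iff.mp (by rw [hk, h0, pow_zero]))
    have hcop : (orderOf x).Coprime (orderOf (y : G)) := by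
      rw [hk, hyo]
      exact ((Nat.coprime_primes h.prime hr).mpr (Ne.symm hne)).pow_left _
    have ho := hyc.orderOf_mul_eq_mul_orderOf_of_coprime hcop
    refine hne (h.not_mixed (g := x * y) ?_ hr ?_)
    · rw [ho, hk]; exact dvd_mul_of_dvd_left (dvd_pow_self p hk0) _
    · rw [ho, hyo]; exact dvd_mul_left _ _
  · intro y hy
    exact Subgroup.mem_centralizer_singleton_iff.mpr (h.comm P y hy x hx)

/-- Two Sylow `p`-subgroups meet trivially. -/
theorem sylow_inter (h : Hyp G p q K A) {P Q : Sylow p G} {x : G} (hP : x ∈ P) (hQ : x ∈ Q)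
    (hx : x ≠ 1) : P = Q :=
  Sylow.ext ((h.centralizer_eq P hP hx).symm.trans (h.centralizer_eq Q hQ hx))

end Hyp

end CfsgLib.Recog.PSLDegree
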