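import Cfsg.Agent.Lib.Recog.PSLDegree.Action
import Cfsg.Agent.S0344
import Cfsg.Agent.Lib.ClassK.SmallSimple
import Cfsg.Agent.Lib.Geom.DicksonPSL
import Mathlib.FieldTheory.Finite.GaloisField

/-!
Groups with the degrees of `PSL₂(p²)` are isomorphic to it.
-/

set_option autoImplicit false

namespace CfsgLib.Recog.PSLDegree

open MulAction

universe u v

/-- The field size is determined by the order. -/
theorem field_eq {q A r : ℕ} (hA : 2 * A = q + 1) (hAodd : Odd A) (hq : 9 ≤ q) (hr : 2 ≤ r)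
    (hr2 : Odd r ∨ ∃ j, r = 2 ^ j)
    (h : Nat.gcd 2 (r - 1) * (q * A * (q - 1)) = r * (r ^ 2 - 1)) : r = q := by
  obtain ⟨s, rfl⟩ : ∃ s, r = s + 2 := ⟨r - 2, by omega⟩
  obtain ⟨t, rfl⟩ : ∃ t, q = t + 2 := ⟨q - 2, by omega⟩
  have e1 : (s + 2) ^ 2 - 1 = s * s + 4 * s + 3 := Nat.sub_eq_of_eq_add (by ring)
  rw [e1, show s + 2 - 1 = s + 1 by omega, show t + 2 - 1 = t + 1 by omega] at h
  rcases hr2 with hodd | ⟨j, hj⟩
  · have hg : Nat.gcd 2 (s + 1) = 2 := Nat.gcd_eq_left (by rcases hodd with ⟨k, hk⟩; omega)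
    rw [hg] at h
    have h' : (s + 2) * ((s + 1) * (s + 3)) = (t + 2) * ((t + 1) * (t + 3)) := by
      calc (s + 2) * ((s + 1) * (s + 3)) = (s + 2) * (s * s + 4 * s + 3) := by ring
        _ = 2 * ((t + 2) * A * (t + 1)) := h.symm
        _ = (t + 2) * (t + 1) * (2 * A) := by ring
        _ = _ := by rw [hA]; ring
    rcases lt_trichotomy s t with hl | hl | hl
    · exfalso
      have := Nat.mul_lt_mul_of_lt_of_lt (show s + 2 < t + 2 by omega)
        (Nat.mul_lt_mul_of_lt_of_lt (show s + 1 < t + 1 by omega) (show s + 3 < t + 3 by omega))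
      omega
    · omega
    · exfalso
      have := Nat.mul_lt_mul_of_lt_of_lt (show t + 2 < s + 2 by omega)
        (Nat.mul_lt_mul_of_lt_of_lt (show t + 1 < s + 1 by omega) (show t + 3 < s + 3 by omega))
      omega
  · exfalso
    rcases Nat.eq_zero_or_pos j with rfl | hj0
    · simp at hj
    have h2r : 2 ∣ s + 2 := hj ▸ dvd_pow_self 2 hj0.ne'
    have hg : Nat.gcd 2 (s + 1) = 1 := by
      rcases (Nat.dvd_prime Nat.prime_two).mp (Nat.gcd_dvd_left 2 (s + 1)) with h' | h'
      · exact h'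
      · have := h' ▸ Nat.gcd_dvd_right 2 (s + 1); omega
    rw [hg, one_mul] at h
    have hdvd : s + 2 ∣ t + 1 := by
      have h0 : s + 2 ∣ (t + 2) * A * (t + 1) := ⟨_, h⟩
      refine (Nat.Coprime.dvd_of_dvd_mul_left ?_ h0)
      rw [hj]
      refine Nat.Coprime.pow_left _ ((Nat.Prime.coprime_iff_not_dvd Nat.prime_two).mpr ?_)
      intro h2
      rcases (Nat.Prime.dvd_mul Nat.prime_two).mp h2 with h' | h'
      · omega
      · rcases hAodd with ⟨k, hk⟩; omega
    obtain ⟨c, hc⟩ := hdvd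
    rcases Nat.lt_or_ge c 2 with hc2 | hc2
    · interval_cases c
      · omega
      · have hts : t = s + 1 := by omega
        subst hts
        have h8 : (s + 3) * (s + 2) * (2 * A) = 2 * ((s + 2) * (s * s + 4 * s + 3)) := by
          rw [← h]; ring
        rw [hA] at h8
        nlinarith
    · have h1 : 2 * (s + 2) ≤ t + 1 := by rw [hc, mul_comm (s + 2) c]; exact Nat.mul_le_mul_right _ hc2
      have h8 : (t + 2) * (t + 1) * (2 * A) = 2 * ((s + 2) * (s * s + 4 * s + 3)) := by
        rw [← h]; ring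
      rw [hA] at h8
      have h9 : (s + 2) * (s + 2) * (s + 2) * 8 ≤ (t + 1) * (t + 1) * (t + 1) := by
        calc (s + 2) * (s + 2) * (s + 2) * 8 = (2 * (s + 2)) * (2 * (s + 2)) * (2 * (s + 2)) := by ring
          _ ≤ _ := Nat.mul_le_mul (Nat.mul_le_mul h1 h1) h1
      nlinarith

theorem psl_of_hyp {G : Type u} [Group G] [Finite G] {F : Type v} [Field F] [Fintype F]
    {p q K A : ℕ} (h : Hyp G p q K A) (hF : Fintype.card F = q)
    (hcase : q = 4 ∨ (K = 2 ∧ q % 4 = 1 ∧ Odd A ∧ 9 ≤ q)) :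
    Nonempty (G ≃* Matrix.ProjectiveSpecialLinearGroup (Fin 2) F) := by
  classical
  have := h.isSimpleGroup
  rcases hcase with h4 | ⟨hK, hq4, hAodd, hq9⟩
  · have h60 : Nat.card G = 60 := by
      rw [h.card]
      rcases h.K_cases with rfl | rfl <;> have := h.A_eq <;> subst h4 <;>
        [rw [show A = 5 by omega]; omega]
    have := CfsgLib.ClassK.isSimpleGroup_psl_two (F := F) (by omega)
    exact CfsgLib.ClassK.nonempty_equiv_sixty h60
      (CfsgLib.Classical.card_psl_two_eq (hF.trans h4) 60 (by decide))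
  · obtain ⟨P, Q, hPQ⟩ : ∃ P Q : Sylow p G, P ≠ Q := by
      have : Fact p.Prime := ⟨h.prime⟩
      have := Fintype.ofFinite (Sylow p G)
      exact Fintype.one_lt_card_iff.mp (by rw [← Nat.card_eq_fintype_card, h.card_sylows.1]; omega)
    have he := h.card_stab_pair hPQ
    rw [hK] at he
    obtain ⟨F', iF', iFf', -, ⟨e⟩⟩ := Cfsg.Agent.S0344.result h.isZassenhausGroup hPQ
      (Nat.even_iff.mpr (by omega))
    have hc := CfsgLib.Classical.card_psl_two_mul (F := F')
    rw [← Nat.card_congr e.toEquiv, h.card] at hc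
    have hr : Fintype.card F' = q := by
      refine field_eq (A := A) (by rw [← h.A_eq, hK]) hAodd hq9 Fintype.one_lt_card ?_ hc
      by_cases h2 : ringChar F' = 2
      · right
        have : CharP F' 2 := h2 ▸ ringChar.charP F'
        obtain ⟨n, -, hn⟩ := FiniteField.card F' 2
        exact ⟨n, hn⟩
      · exact Or.inl (Nat.odd_iff.mpr (FiniteField.odd_card_of_char_ne_two h2))
    exact ⟨e.trans (CfsgLib.Geom.Moebius.pslCongr (FiniteField.ringEquivOfCardEq (hr.trans hF.symm)))⟩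

end CfsgLib.Recog.PSLDegree
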